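import Groth.Agent.KFlatLib.Ring.DualizingLocalExt
import Groth.Agent.KFlatLib.Ring.DualizingShriek
import Groth.Agent.KFlatLib.Ring.ShriekBasic
import Groth.Prelude.Def_Disc

/-!
# Degree zero of the finite upper shriek of the ring
-/

set_option autoImplicit false
set_option linter.style.haveILetI false
set_option backward.isDefEq.respectTransparency false

universe u

open CategoryTheory CategoryTheory.Limits

attribute [local instance] HasDerivedCategory.standard

namespace Groth.Agent.H1DiscOm

open KFlatLib

/-- `H^0` of the right adjoint of restriction, at `A`, is `Hom_A(B, A)` with the action through the argument. -/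
theorem nonempty_hd_zero_linearEquiv_omega {A B : Type u} [CommRing A] [CommRing B] [Algebra A B]
    (R : Dual.D A ⥤ Dual.D B) (adj : DRing.restrictD (algebraMap A B) ⊣ R) :
    Nonempty (Dual.HD B (R.obj (Dual.inD A A)) 0 ≃ₗ[B] Disc.Omega A B) := by
  let φ := algebraMap A B
  let SA := DerivedCategory.singleFunctor (ModuleCat.{u} A) 0
  let SB := DerivedCategory.singleFunctor (ModuleCat.{u} B) 0
  let eB : ((ModuleCat.restrictScalars φ).obj (ModuleCat.of B B) : Type u) ≃ₗ[A] B :=
    LinearEquiv.ofBijective
      ({ toFun := fun x => x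
         map_add' := fun _ _ => rfl
         map_smul' := fun r (x : B) => (Algebra.smul_def r x).symm } :
        ((ModuleCat.restrictScalars φ).obj (ModuleCat.of B B) : Type u) →ₗ[A] B) Function.bijective_id
  let eres : (DRing.restrictD φ).obj (SB.obj (ModuleCat.of B B)) ≅ SA.obj (ModuleCat.of A B) :=
    ((ModuleCat.restrictScalars.{u} φ).mapDerivedCategorySingleFunctor 0).app (ModuleCat.of B B) ≪≫
      SA.mapIso eB.toModuleIso
  let mult : B → (ModuleCat.of B B ⟶ ModuleCat.of B B) := fun b => ModuleCat.ofHom (LinearMap.mulLeft B b)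
  let multA : B → (ModuleCat.of A B ⟶ ModuleCat.of A B) := fun b => ModuleCat.ofHom (LinearMap.mulLeft A b)
  have hnat : ∀ b : B, (DRing.restrictD φ).map (SB.map (mult b)) ≫ eres.hom = eres.hom ≫ SA.map (multA b) := by
    intro b
    have hn := ((ModuleCat.restrictScalars.{u} φ).mapDerivedCategorySingleFunctor 0).hom.naturality (mult b)
    have hm : (ModuleCat.restrictScalars φ).map (mult b) ≫ eB.toModuleIso.hom =
        eB.toModuleIso.hom ≫ multA b := rfl
    refine (Category.assoc _ _ _).symm.trans ?_
    refine (congrArg (· ≫ SA.map eB.toModuleIso.hom) hn).trans ?_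
    refine (Category.assoc _ _ _).trans (Eq.trans ?_ (Category.assoc _ _ _).symm)
    refine congrArg (_ ≫ ·) ((SA.map_comp _ _).symm.trans ?_)
    exact (congrArg SA.map hm).trans (SA.map_comp _ _)
  let T : (Dual.inD B B ⟶ R.obj (Dual.inD A A)) → Disc.Omega A B := fun f =>
    ⟨(SA.preimage (eres.inv ≫ (adj.homEquiv _ _).symm f)).hom⟩
  have hT : ∀ f, SA.map (ModuleCat.ofHom (T f).toLinearMap) = eres.inv ≫ (adj.homEquiv _ _).symm f := fun f =>
    SA.map_preimage _
  have hinj : ∀ w w' : Disc.Omega A B, SA.map (ModuleCat.ofHom w.toLinearMap) = SA.map (ModuleCat.ofHom w'.toLinearMap) →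
      w = w' := fun w w' h => Disc.Omega.ext (congrArg ModuleCat.Hom.hom (SA.map_injective h))
  have hadd : ∀ f g, T (f + g) = T f + T g := fun f g => by
    haveI : (DRing.restrictD φ).Additive := inferInstance
    refine hinj _ _ ?_
    rw [hT, Disc.Omega.add_toLinearMap, ModuleCat.ofHom_add, Functor.map_add, hT, hT,
      Adjunction.homEquiv_counit, Adjunction.homEquiv_counit, Adjunction.homEquiv_counit, Functor.map_add,
      Preadditive.add_comp, Preadditive.comp_add]
  have hsmul : ∀ (b : B) f, T (b • f) = b • T f := fun b f => by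
    refine hinj _ _ ?_
    have h1 : b • f = SB.map (mult b) ≫ f := by
      rw [show mult b = b • 𝟙 (ModuleCat.of B B) from rfl, Functor.map_smul, CategoryTheory.Functor.map_id,
        Linear.smul_comp]
      exact congrArg (b • ·) (Category.id_comp f).symm
    have h2 : (adj.homEquiv _ _).symm (SB.map (mult b) ≫ f) =
        (DRing.restrictD φ).map (SB.map (mult b)) ≫ (adj.homEquiv _ _).symm f :=
      adj.homEquiv_naturality_left_symm _ _
    rw [show ModuleCat.ofHom (b • T f).toLinearMap = multA b ≫ ModuleCat.ofHom (T f).toLinearMap from rfl,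
      Functor.map_comp, hT, hT, h1, h2, ← Category.assoc, ← Category.assoc]
    refine congrArg (· ≫ _) ?_
    rw [Iso.inv_comp_eq, ← Category.assoc, ← hnat, Category.assoc, Iso.hom_inv_id, Category.comp_id]
  have hbij : Function.Bijective T := by
    refine ⟨fun f g h => (adj.homEquiv _ _).symm.injective ((cancel_epi eres.inv).1 ?_), fun w => ?_⟩
    · rw [← hT, ← hT, h]
    · refine ⟨adj.homEquiv _ _ (eres.hom ≫ SA.map (ModuleCat.ofHom w.toLinearMap)), hinj _ _ ?_⟩
      rw [hT, Equiv.symm_apply_apply, Iso.inv_hom_id_assoc]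
  obtain ⟨e⟩ := exists_homRingLEquiv (R.obj (Dual.inD A A)) 0
  let e₀ : (Dual.inD B B ⟶ R.obj (Dual.inD A A)) ≃ₗ[B] Dual.HD B (R.obj (Dual.inD A A)) 0 :=
    (Linear.homCongr B (Iso.refl _) ((shiftFunctorZero (Dual.D B) ℤ).app _).symm).trans e
  exact ⟨e₀.symm.trans (LinearEquiv.ofBijective { toFun := T, map_add' := hadd, map_smul' := hsmul } hbij)⟩

end Groth.Agent.H1DiscOm
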